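import Cfsg.Agent.H201.F4.Ges
import Cfsg.Agent.Nodes.RGDLift

/-!
# S2491, row F4 = `²E₆(2)` : elements over `P_1 ∖ V_1` : the abstract part of `P1` (helper461)

`ρ : H → K` finite, central kernel, `V ≤ ρ(H)` a normal 2-subgroup "extraspecial" with centre `X = ⟨ρ t⟩`, `t` a central
involution of `H`, commutators of the 2-elements over `V` in `⟨t⟩`, the 2-part `Z` of the kernel elementary of order `∣ 4`
and contained in `[V~, H]`, `V = [V, ρ(H)]`.  If `c ∈ V~ [a, b]`, `H = V~ ⟨a, b⟩ ker ρ`, and `c` has rank at least 5 on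
`V/X`, then `c` is a commutator.
-/

set_option autoImplicit false
set_option linter.unusedSectionVars false

namespace Cfsg.Agent.H461.QF

universe u v

open Subgroup
open Cfsg.Agent.H6.ORE (FPz)
open Cfsg.Agent.Nodes.RGDLift (lft mem_lft isPGroup_lft)
open scoped commutatorElement

section Fpz

variable {H : Type v} [Group H] {Q : Subgroup H} {t : H}

/-- `[Q, H] = Q`, `H = Q ⟨a, b⟩ Z(H)`, `Q/⟨t⟩` abelian : `Q/⟨t⟩ = [Q/⟨t⟩, b] + [Q/⟨t⟩, a]` -/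
theorem fpz_of (hQ : Q.Normal) (ht : t ∈ Q) (htc : ∀ h : H, h * t = t * h) (ht2 : t * t = 1)
    (hcomm : ∀ x ∈ Q, ∀ y ∈ Q, x * y = y * x ∨ x * y = y * x * t) {a b : H}
    (hgen : ∀ M : Subgroup H, a ∈ M → b ∈ M → Q ≤ M → center H ≤ M → M = ⊤)
    (hW : ∀ W : Subgroup H, (∀ x ∈ Q, ∀ g : H, x * g * x⁻¹ * g⁻¹ ∈ W) → Q ≤ W) : FPz Q t a b := by
  classical
  have hzt : ∀ x : H, x ∈ zpowers t → x = 1 ∨ x = t := by
    rintro x ⟨n, rfl⟩
    have h2 : t ^ (2 : ℤ) = 1 := by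
      rw [zpow_two]; exact ht2
    rcases Int.even_or_odd' n with ⟨k, hk | hk⟩
    · left
      show t ^ n = 1
      rw [hk, zpow_mul, h2, one_zpow]
    · right
      show t ^ n = t
      rw [hk, zpow_add, zpow_mul, h2, one_zpow, one_mul, zpow_one]
  have hTn : (zpowers t).Normal := by
    refine ⟨fun x hx g => ?_⟩
    have h1 : g * x = x * g := by
      rcases hzt x hx with rfl | rfl
      · simp
      · exact htc g
    rw [h1, mul_inv_cancel_right]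
    exact hx
  let q : H →* H ⧸ zpowers t := QuotientGroup.mk' (zpowers t)
  have hq1 : ∀ x y : H, q x = q y → ∃ ζ : H, (ζ = 1 ∨ ζ = t) ∧ y = x * ζ := by
    intro x y h
    have h2 : x⁻¹ * y ∈ zpowers t := (QuotientGroup.eq).1 h
    exact ⟨x⁻¹ * y, hzt _ h2, by group⟩
  have hqt : q t = 1 := (QuotientGroup.eq_one_iff t).2 (mem_zpowers t)
  let Qb : Subgroup (H ⧸ zpowers t) := Q.map q
  have hQb : Qb.Normal := hQ.map q (QuotientGroup.mk'_surjective _)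
  have hQbc : ∀ x ∈ Qb, ∀ y ∈ Qb, x * y = y * x := by
    rintro _ ⟨x, hx, rfl⟩ _ ⟨y, hy, rfl⟩
    rw [← map_mul, ← map_mul]
    rcases hcomm x hx y hy with h | h
    · rw [h]
    · rw [h, map_mul, hqt, mul_one]
  let inst : CommGroup ↥Qb := { (inferInstance : Group ↥Qb) with mul_comm := fun x y => Subtype.ext (hQbc _ x.2 _ y.2) }
  let δ : H → (↥Qb →* ↥Qb) := fun g =>
    (MonoidHom.id ↥Qb) / ((MulAut.conjNormal (H := Qb) (q g)).toMonoidHom)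
  have hδ : ∀ (g : H) (x : ↥Qb), ((δ g x : ↥Qb) : H ⧸ zpowers t) = x * (q g * x * (q g)⁻¹)⁻¹ := by
    intro g x
    show ((x / (MulAut.conjNormal (H := Qb) (q g)) x : ↥Qb) : H ⧸ zpowers t) = _
    rw [div_eq_mul_inv]
    show (x : H ⧸ zpowers t) * (((MulAut.conjNormal (H := Qb) (q g)) x : ↥Qb) : H ⧸ zpowers t)⁻¹ = _
    rw [MulAut.conjNormal_apply]
  let S : Subgroup ↥Qb := (δ b).range ⊔ (δ a).range
  let W : Subgroup H := (S.map Qb.subtype).comap q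
  have hWspec : ∀ w ∈ W, ∃ u ∈ Q, ∃ v ∈ Q, ∃ ζ : H, (ζ = 1 ∨ ζ = t) ∧
      w = u * (b * u * b⁻¹)⁻¹ * (v * (a * v * a⁻¹)⁻¹) * ζ := by
    intro w hw
    obtain ⟨s, hs, hsw⟩ := (hw : q w ∈ S.map Qb.subtype)
    obtain ⟨y, ⟨u', rfl⟩, z, ⟨v', rfl⟩, hyz⟩ := Subgroup.mem_sup.1 hs
    obtain ⟨u, hu, hu'⟩ := u'.2
    obtain ⟨v, hv, hv'⟩ := v'.2
    refine ⟨u, hu, v, hv, ?_⟩
    apply hq1
    rw [← hsw, ← hyz]
    show _ = ((δ b u' : ↥Qb) : H ⧸ zpowers t) * ((δ a v' : ↥Qb) : H ⧸ zpowers t)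
    rw [hδ, hδ, ← hu', ← hv']
    simp only [map_mul, map_inv]
  have hWQ : W ≤ Q := by
    intro w hw
    obtain ⟨u, hu, v, hv, ζ, hζ, rfl⟩ := hWspec w hw
    have hζQ : ζ ∈ Q := by
      rcases hζ with rfl | rfl
      · exact one_mem Q
      · exact ht
    exact mul_mem (mul_mem (mul_mem hu (inv_mem (hQ.conj_mem _ hu _))) (mul_mem hv (inv_mem (hQ.conj_mem _ hv _)))) hζQ
  have hδW : ∀ x ∈ Q, ∀ g : H, (g = a ∨ g = b) → x * g * x⁻¹ * g⁻¹ ∈ W := by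
    intro x hx g hg
    have h1 : (δ g ⟨q x, x, hx, rfl⟩ : ↥Qb) ∈ S := by
      rcases hg with rfl | rfl
      · exact (le_sup_right : (δ g).range ≤ S) ⟨_, rfl⟩
      · exact (le_sup_left : (δ g).range ≤ S) ⟨_, rfl⟩
    refine ⟨_, h1, ?_⟩
    show ((δ g _ : ↥Qb) : H ⧸ zpowers t) = _
    rw [hδ]
    simp only [map_mul, map_inv]
    group
  have htW : t ∈ W := by
    show q t ∈ S.map Qb.subtype
    rw [hqt]
    exact one_mem _
  -- the elements acting trivially on `Q/W`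
  let M : Subgroup H :=
    { carrier := {g | ∀ x ∈ Q, x * g * x⁻¹ * g⁻¹ ∈ W}
      one_mem' := fun x _ => by
        have : x * 1 * x⁻¹ * 1⁻¹ = 1 := by group
        rw [this]; exact one_mem W
      mul_mem' := by
        intro g h hg hh x hx
        have h1 := hg x hx
        have h2 := hh x hx
        have h3 := hg _ (hWQ h2)
        have e : x * (g * h) * x⁻¹ * (g * h)⁻¹ = (x * g * x⁻¹ * g⁻¹) *
            (((x * h * x⁻¹ * h⁻¹) * g * (x * h * x⁻¹ * h⁻¹)⁻¹ * g⁻¹)⁻¹ * (x * h * x⁻¹ * h⁻¹)) := by group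
        show x * (g * h) * x⁻¹ * (g * h)⁻¹ ∈ W
        rw [e]
        exact mul_mem h1 (mul_mem (inv_mem h3) h2)
      inv_mem' := by
        intro g hg x hx
        have h1 := hg x hx
        have h2 : g⁻¹ * (x * g * x⁻¹ * g⁻¹)⁻¹ * g ∈ Q := by
          have := hQ.conj_mem _ (inv_mem (hWQ h1)) g⁻¹
          rwa [inv_inv] at this
        have h3 := hg _ h2
        have e : x * g⁻¹ * x⁻¹ * g⁻¹⁻¹ = (g⁻¹ * (x * g * x⁻¹ * g⁻¹)⁻¹ * g * g * (g⁻¹ * (x * g * x⁻¹ * g⁻¹)⁻¹ * g)⁻¹ * g⁻¹) *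
            (x * g * x⁻¹ * g⁻¹)⁻¹ := by group
        show x * g⁻¹ * x⁻¹ * g⁻¹⁻¹ ∈ W
        rw [e]
        exact mul_mem h3 (inv_mem h1) }
  have hM : M = ⊤ := by
    apply hgen M
    · exact fun x hx => hδW x hx a (Or.inl rfl)
    · exact fun x hx => hδW x hx b (Or.inr rfl)
    · intro y hy x hx
      rcases hcomm x hx y hy with h | h
      · have e : x * y * x⁻¹ * y⁻¹ = 1 := by rw [h]; group
        rw [e]; exact one_mem W
      · have e : x * y * x⁻¹ * y⁻¹ = t := by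
          rw [h, htc (y * x)]; group
        rw [e]; exact htW
    · intro y hy x hx
      have h := mem_center_iff.1 hy x
      have e : x * y * x⁻¹ * y⁻¹ = 1 := by rw [h]; group
      rw [e]; exact one_mem W
  have hQW : Q ≤ W := hW W fun x hx g => (hM ▸ mem_top g : g ∈ M) x hx
  exact fun w hw => hWspec w (hQW hw)

end Fpz

section Core

variable {H : Type v} [Group H] [Finite H] {K : Type u} [Group K] {ρ : H →* K}

/-- 2-elements lift to 2-elements -/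
theorem exists_two (y : H) {k : ℕ} (hk : ρ y ^ 2 ^ k = 1) : ∃ x : H, ρ x = ρ y ∧ ∃ l : ℕ, x ^ 2 ^ l = 1 := by
  obtain ⟨a, m, hm, ho⟩ := Nat.exists_eq_two_pow_mul_odd (n := orderOf y) (orderOf_pos y).ne'
  obtain ⟨r, hr1, hr2⟩ := Nat.chineseRemainder (n := 2 ^ k) (m := m) (Nat.Coprime.pow_left k (Nat.coprime_two_left.2 hm)) 1 0
  refine ⟨y ^ r, ?_, a, ?_⟩
  · rw [map_pow]
    have h1 := (pow_eq_pow_iff_modEq (x := ρ y) (n := r) (m := 1)).2 (hr1.of_dvd (orderOf_dvd_of_pow_eq_one hk))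
    rw [h1, pow_one]
  · rw [← pow_mul]
    apply orderOf_dvd_iff_pow_eq_one.1
    rw [ho, mul_comm]
    exact mul_dvd_mul_right ((Nat.modEq_zero_iff_dvd).1 hr2) _

/-- the data -/
structure Dat (ρ : H →* K) (V X : Subgroup K) (t : H) : Prop where
  cen : ρ.ker ≤ center H
  nor : ∀ g : H, ∀ v ∈ V, ρ g * v * (ρ g)⁻¹ ∈ V
  le : V ≤ ρ.range
  pgr : IsPGroup 2 V
  XV : X ≤ V
  Xt : ∀ x ∈ X, x = 1 ∨ x = ρ t
  tX : ρ t ∈ X
  tne : ρ t ≠ 1
  tsq : t * t = 1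
  tcen : ∀ g : H, g * t = t * g
  comm : ∀ x ∈ lft 2 ρ V, ∀ y ∈ lft 2 ρ V, x * y = y * x ∨ x * y = y * x * t
  zsq : ∀ z : H, ρ z = 1 → (∃ k : ℕ, z ^ 2 ^ k = 1) → z * z = 1
  zcard : ∀ Z : Subgroup H, (∀ z ∈ Z, ρ z = 1 ∧ z * z = 1) → Nat.card Z ∣ 4
  sq : ∀ x ∈ V, x * x ∈ X
  nd : ∀ x ∈ V, (∀ y ∈ V, x * y = y * x) → x ∈ X
  perf : V ≤ ⁅V, ρ.range⁆
  h1 : ∀ z : H, ρ z = 1 → z * z = 1 → z ∈ ⁅V.comap ρ, (⊤ : Subgroup H)⁆

namespace Dat

variable {V X : Subgroup K} {t : H}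

theorem kcomm (h : Dat ρ V X t) {z : H} (hz : ρ z = 1) (g : H) : g * z = z * g :=
  mem_center_iff.1 (h.cen (MonoidHom.mem_ker.2 hz)) g

theorem mem (h : Dat ρ V X t) {x : H} : x ∈ lft 2 ρ V ↔ ρ x ∈ V ∧ ∃ k : ℕ, x ^ 2 ^ k = 1 := mem_lft h.cen h.pgr

theorem exists_lift (h : Dat ρ V X t) {v : K} (hv : v ∈ V) : ∃ x ∈ lft 2 ρ V, ρ x = v := by
  obtain ⟨y, rfl⟩ := h.le hv
  obtain ⟨k, hk⟩ := h.pgr ⟨_, hv⟩
  have hk' : ρ y ^ 2 ^ k = 1 := congrArg Subtype.val hk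
  obtain ⟨x, hx, l, hl⟩ := exists_two y hk'
  exact ⟨x, h.mem.2 ⟨hx ▸ hv, l, hl⟩, hx⟩

theorem conj_mem (h : Dat ρ V X t) {x : H} (hx : x ∈ lft 2 ρ V) (g : H) : g * x * g⁻¹ ∈ lft 2 ρ V := by
  obtain ⟨h1, k, hk⟩ := h.mem.1 hx
  refine h.mem.2 ⟨?_, k, ?_⟩
  · rw [map_mul, map_mul, map_inv]
    exact h.nor g _ h1
  · rw [conj_pow, hk, mul_one, mul_inv_cancel]

theorem normal (h : Dat ρ V X t) : (lft 2 ρ V).Normal := ⟨fun _ hx g => h.conj_mem hx g⟩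

theorem t_mem (h : Dat ρ V X t) : t ∈ lft 2 ρ V :=
  h.mem.2 ⟨h.XV h.tX, 1, by rw [pow_one, pow_two]; exact h.tsq⟩

/-- `[V~, H] ≤ W` if `W` contains all commutators of `Q` and `H` -/
theorem comm_le (h : Dat ρ V X t) {W : Subgroup H} (hW : ∀ x ∈ lft 2 ρ V, ∀ g : H, x * g * x⁻¹ * g⁻¹ ∈ W) :
    ⁅V.comap ρ, (⊤ : Subgroup H)⁆ ≤ W := by
  rw [Subgroup.commutator_le]
  intro y hy g _
  obtain ⟨x, hx, hxy⟩ := h.exists_lift (show ρ y ∈ V from hy)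
  have h1 : ρ (x⁻¹ * y) = 1 := by rw [map_mul, map_inv, hxy, inv_mul_cancel]
  have h2 := h.kcomm h1 g
  have h3 : g * (x⁻¹ * y)⁻¹ = (x⁻¹ * y)⁻¹ * g := h.kcomm (by rw [map_inv, h1, inv_one]) g
  have e : ⁅y, g⁆ = x * g * x⁻¹ * g⁻¹ := by
    rw [commutatorElement_def]
    calc y * g * y⁻¹ * g⁻¹ = x * ((x⁻¹ * y) * g) * y⁻¹ * g⁻¹ := by group
      _ = x * (g * (x⁻¹ * y)) * y⁻¹ * g⁻¹ := by rw [h2]
      _ = x * g * x⁻¹ * g⁻¹ := by group
  rw [e]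
  exact hW x hx g

/-- `Q = [Q, H]` -/
theorem le_of_comm (h : Dat ρ V X t) {W : Subgroup H} (hW : ∀ x ∈ lft 2 ρ V, ∀ g : H, x * g * x⁻¹ * g⁻¹ ∈ W) :
    lft 2 ρ V ≤ W := by
  intro x hx
  have h1 : ρ x ∈ (⁅V.comap ρ, (⊤ : Subgroup H)⁆).map ρ := by
    rw [Subgroup.map_commutator, ← MonoidHom.range_eq_map, Subgroup.map_comap_eq_self h.le]
    exact h.perf (h.mem.1 hx).1
  obtain ⟨w, hw, hwx⟩ := h1
  have h2 : w ∈ lft 2 ρ V := by
    refine h.comm_le (W := lft 2 ρ V) ?_ hw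
    intro y hy g
    have e : y * g * y⁻¹ * g⁻¹ = y * (g * y⁻¹ * g⁻¹) := by group
    rw [e]
    exact mul_mem hy (h.conj_mem (inv_mem hy) g)
  have h3 : ρ (w⁻¹ * x) = 1 := by rw [map_mul, map_inv, hwx, inv_mul_cancel]
  have h4 := h.zsq _ h3 (h.mem.1 (mul_mem (inv_mem h2) hx)).2
  have h5 := h.comm_le hW (h.h1 _ h3 h4)
  have h6 := mul_mem (h.comm_le hW hw) h5
  rwa [mul_inv_cancel_left] at h6

theorem of_X (h : Dat ρ V X t) {x : H} (hx : x ∈ lft 2 ρ V) (h1 : ρ x ∈ X) :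
    ∃ z : H, ρ z = 1 ∧ z * z = 1 ∧ (x = z ∨ x = z * t) := by
  rcases h.Xt _ h1 with h2 | h2
  · exact ⟨x, h2, h.zsq x h2 (h.mem.1 hx).2, Or.inl rfl⟩
  · have h3 : ρ (x * t⁻¹) = 1 := by rw [map_mul, map_inv, h2, mul_inv_cancel]
    exact ⟨x * t⁻¹, h3, h.zsq _ h3 (h.mem.1 (mul_mem hx (inv_mem h.t_mem))).2, Or.inr (by group)⟩

theorem sq_comm (h : Dat ρ V X t) {x : H} (hx : x ∈ lft 2 ρ V) (g : H) : g * (x * x) = (x * x) * g := by
  obtain ⟨z, hz, -, e | e⟩ := h.of_X (mul_mem hx hx) (by rw [map_mul]; exact h.sq _ (h.mem.1 hx).1)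
  · rw [e]; exact h.kcomm hz g
  · rw [e, ← mul_assoc, h.kcomm hz g, mul_assoc, h.tcen, mul_assoc]

theorem pow (h : Dat ρ V X t) : ∀ x ∈ lft 2 ρ V, x * x = 1 ∨ x * x = t := by
  have key : ∀ x ∈ lft 2 ρ V, ∀ y ∈ lft 2 ρ V, ∃ ζ : H, (ζ = 1 ∨ ζ = t) ∧ (x * y) * (x * y) = (x * x) * (y * y) * ζ := by
    intro x hx y hy
    rcases h.comm y hy x hx with e | e
    · refine ⟨1, Or.inl rfl, ?_⟩
      calc (x * y) * (x * y) = x * (y * x) * y := by group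
        _ = x * (x * y) * y := by rw [e]
        _ = _ := by group
    · refine ⟨t, Or.inr rfl, ?_⟩
      calc (x * y) * (x * y) = x * (y * x) * y := by group
        _ = x * (x * y * t) * y := by rw [e]
        _ = x * x * y * (t * y) := by group
        _ = x * x * y * (y * t) := by rw [h.tcen]
        _ = _ := by group
  have tt : ∀ {x y : H}, (x = 1 ∨ x = t) → (y = 1 ∨ y = t) → (x * y = 1 ∨ x * y = t) := by
    rintro x y (rfl | rfl) (rfl | rfl)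
    · left; simp
    · right; simp
    · right; simp
    · left; exact h.tsq
  let W : Subgroup H :=
    { carrier := {x | x ∈ lft 2 ρ V ∧ (x * x = 1 ∨ x * x = t)}
      one_mem' := ⟨one_mem _, Or.inl (one_mul 1)⟩
      mul_mem' := by
        rintro x y ⟨hx, hx2⟩ ⟨hy, hy2⟩
        refine ⟨mul_mem hx hy, ?_⟩
        obtain ⟨ζ, hζ, e⟩ := key x hx y hy
        rw [e]
        exact tt (tt hx2 hy2) hζ
      inv_mem' := by
        rintro x ⟨hx, hx2⟩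
        refine ⟨inv_mem hx, ?_⟩
        rw [← mul_inv_rev]
        rcases hx2 with e | e
        · left; rw [e, inv_one]
        · right; rw [e]; exact inv_eq_of_mul_eq_one_left h.tsq }
  have hW : lft 2 ρ V ≤ W := by
    apply h.le_of_comm
    intro x hx g
    have h1 := h.conj_mem (inv_mem hx) g
    have e1 : x * g * x⁻¹ * g⁻¹ = x * (g * x⁻¹ * g⁻¹) := by group
    rw [e1]
    refine ⟨mul_mem hx h1, ?_⟩
    obtain ⟨ζ, hζ, e⟩ := key x hx _ h1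
    have h2 := h.sq_comm (inv_mem hx) g
    have e2 : (g * x⁻¹ * g⁻¹) * (g * x⁻¹ * g⁻¹) = (x * x)⁻¹ := by
      calc (g * x⁻¹ * g⁻¹) * (g * x⁻¹ * g⁻¹) = (g * (x⁻¹ * x⁻¹)) * g⁻¹ := by group
        _ = _ := by rw [h2]; group
    rw [e, e2, mul_inv_cancel, one_mul]
    exact hζ
  exact fun x hx => (hW hx).2

/-- **The core.** -/
theorem main (h : Dat ρ V X t) {a b c : H} (hgen : ∀ g : H, ρ g ∈ V ⊔ closure {ρ a, ρ b})
    (hc : c * (a * b * a⁻¹ * b⁻¹)⁻¹ ∈ lft 2 ρ V)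
    (hrk : 32 * Nat.card {x : K // x ∈ V ∧ ρ c * x * (ρ c)⁻¹ * x⁻¹ ∈ X} ≤ Nat.card V) :
    ∃ x y : H, c = x * y * x⁻¹ * y⁻¹ := by
  classical
  have : Finite ρ.range := Finite.of_surjective ρ.rangeRestrict ρ.rangeRestrict_surjective
  have : Finite V := Finite.of_injective _ (Subgroup.inclusion_injective h.le)
  let Z : Subgroup H :=
    { carrier := {z | ρ z = 1 ∧ z * z = 1}
      one_mem' := ⟨map_one ρ, one_mul 1⟩
      mul_mem' := by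
        rintro x y ⟨hx, hx2⟩ ⟨hy, hy2⟩
        refine ⟨by rw [map_mul, hx, hy, one_mul], ?_⟩
        calc x * y * (x * y) = x * (y * x) * y := by group
          _ = x * (x * y) * y := by rw [h.kcomm hx y]
          _ = (x * x) * (y * y) := by group
          _ = 1 := by rw [hx2, hy2, one_mul]
      inv_mem' := by
        rintro x ⟨hx, hx2⟩
        exact ⟨by rw [map_inv, hx, inv_one], by rw [← mul_inv_rev, hx2, inv_one]⟩ }
  have hZmem : ∀ z, z ∈ Z ↔ ρ z = 1 ∧ z * z = 1 := fun z => Iff.rfl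
  have hZQ : Z ≤ lft 2 ρ V := fun z hz =>
    h.mem.2 ⟨by rw [hz.1]; exact one_mem V, 1, by rw [pow_one, pow_two]; exact hz.2⟩
  have hZc : Z ≤ center H := fun z hz => h.cen (MonoidHom.mem_ker.2 hz.1)
  have htZ : t ∉ Z := fun hz => h.tne hz.1
  have hnd : ∀ x ∈ lft 2 ρ V, (∀ y ∈ lft 2 ρ V, x * y = y * x) → ∃ z ∈ Z, x = z ∨ x = z * t := by
    intro x hx hxy
    have h1 : ρ x ∈ X := by
      refine h.nd _ (h.mem.1 hx).1 ?_
      intro v hv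
      obtain ⟨y, hy, rfl⟩ := h.exists_lift hv
      rw [← map_mul, ← map_mul, hxy y hy]
    obtain ⟨z, hz1, hz2, e⟩ := h.of_X hx h1
    exact ⟨z, ⟨hz1, hz2⟩, e⟩
  have hfp : FPz (lft 2 ρ V) t a b := by
    refine fpz_of h.normal h.t_mem h.tcen h.tsq h.comm ?_ fun W hW => h.le_of_comm hW
    intro M ha hb hQ hZ
    rw [eq_top_iff]
    intro g _
    have h1 : V ⊔ closure {ρ a, ρ b} ≤ M.map ρ := by
      refine sup_le ?_ ?_
      · intro v hv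
        obtain ⟨x, hx, rfl⟩ := h.exists_lift hv
        exact ⟨x, hQ hx, rfl⟩
      · rw [closure_le]
        rintro y (rfl | rfl)
        · exact ⟨a, ha, rfl⟩
        · exact ⟨b, hb, rfl⟩
    obtain ⟨m, hm, hmg⟩ := h1 (hgen g)
    have h2 : m⁻¹ * g ∈ M := hZ (h.cen (MonoidHom.mem_ker.2 (by rw [map_mul, map_inv, hmg, inv_mul_cancel])))
    have h3 := mul_mem hm h2
    rwa [mul_inv_cancel_left] at h3
  -- the orders
  let r : ↥(lft 2 ρ V) → V := fun x => ⟨ρ x, (h.mem.1 x.2).1⟩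
  have hcard : ∀ (A : Set K), A ⊆ V → Nat.card {x : H // x ∈ lft 2 ρ V ∧ ρ x ∈ A} = Nat.card Z * Nat.card A := by
    intro A hA
    have hl : ∀ v : A, ∃ x : H, x ∈ lft 2 ρ V ∧ ρ x = v := fun v => h.exists_lift (hA v.2)
    choose s hs1 hs2 using hl
    rw [← Nat.card_prod]
    refine Nat.card_congr ⟨fun x => (⟨(s ⟨ρ x.1, x.2.2⟩)⁻¹ * x.1, ?_⟩, ⟨ρ x.1, x.2.2⟩), fun y => ⟨s y.2 * y.1, ?_, ?_⟩, ?_, ?_⟩
    · have h1 : ρ ((s ⟨ρ x.1, x.2.2⟩)⁻¹ * x.1) = 1 := by rw [map_mul, map_inv, hs2, inv_mul_cancel]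
      exact ⟨h1, h.zsq _ h1 (h.mem.1 (mul_mem (inv_mem (hs1 _)) x.2.1)).2⟩
    · exact mul_mem (hs1 _) (hZQ y.1.2)
    · rw [map_mul, hs2, y.1.2.1, mul_one]
      exact y.2.2
    · intro x
      apply Subtype.ext
      show s ⟨ρ x.1, x.2.2⟩ * ((s ⟨ρ x.1, x.2.2⟩)⁻¹ * x.1) = x.1
      rw [mul_inv_cancel_left]
    · rintro ⟨z, v⟩
      have h1 : ρ (s v * z) = v := by rw [map_mul, hs2, z.2.1, mul_one]
      have h2 : (⟨ρ (s v * z), by rw [h1]; exact v.2⟩ : A) = v := Subtype.ext h1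
      apply Prod.ext
      · apply Subtype.ext
        show (s ⟨ρ (s v * z), _⟩)⁻¹ * (s v * z) = z
        rw [h2, inv_mul_cancel_left]
      · exact h2
  have hQc : Nat.card (lft 2 ρ V) = Nat.card Z * Nat.card V := by
    have h1 := hcard (V : Set K) subset_rfl
    rw [← Nat.card_congr (Equiv.subtypeEquivRight (p := fun x => x ∈ lft 2 ρ V ∧ ρ x ∈ (V : Set K))
      (q := fun x => x ∈ lft 2 ρ V) fun x => ⟨fun hx => hx.1, fun hx => ⟨hx, (h.mem.1 hx).1⟩⟩)]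
    exact h1
  have hN : Nat.card {x : H // x ∈ lft 2 ρ V ∧ ∃ z ∈ Z, c * x * c⁻¹ = x * z ∨ c * x * c⁻¹ = x * z * t} ≤
      Nat.card Z * Nat.card {x : K // x ∈ V ∧ ρ c * x * (ρ c)⁻¹ * x⁻¹ ∈ X} := by
    have h1 := hcard {x : K | x ∈ V ∧ ρ c * x * (ρ c)⁻¹ * x⁻¹ ∈ X} fun x hx => hx.1
    have e : Nat.card {x : K // x ∈ V ∧ ρ c * x * (ρ c)⁻¹ * x⁻¹ ∈ X} =
      Nat.card ↥{x : K | x ∈ V ∧ ρ c * x * (ρ c)⁻¹ * x⁻¹ ∈ X} := rfl
    rw [e, ← h1]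
    have f : ∀ x : {x : H // x ∈ lft 2 ρ V ∧ ∃ z ∈ Z, c * x * c⁻¹ = x * z ∨ c * x * c⁻¹ = x * z * t},
        (x : H) ∈ lft 2 ρ V ∧ ρ (x : H) ∈ {x : K | x ∈ V ∧ ρ c * x * (ρ c)⁻¹ * x⁻¹ ∈ X} := by
      rintro ⟨x, hx, z, hz, e⟩
      refine ⟨hx, (h.mem.1 hx).1, ?_⟩
      rcases e with e | e
      · have h2 : ρ c * ρ x * (ρ c)⁻¹ = ρ x := by
          have := congrArg ρ e
          rwa [map_mul, map_mul, map_inv, map_mul, hz.1, mul_one] at this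
        rw [h2, mul_inv_cancel]
        exact one_mem X
      · have h2 : ρ c * ρ x * (ρ c)⁻¹ = ρ t * ρ x := by
          have := congrArg ρ e
          rwa [map_mul, map_mul, map_inv, map_mul, map_mul, hz.1, mul_one, ← map_mul, ← map_mul, h.tcen, map_mul,
            map_mul] at this
        rw [h2, mul_inv_cancel_right]
        exact h.tX
    exact Nat.card_le_card_of_injective (fun x => ⟨x.1, f x⟩) fun x y hxy => Subtype.ext (congrArg (fun w => w.1) hxy)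
  obtain ⟨q₁, -, q₂, -, e⟩ := Cfsg.Agent.H201.F4.ges h.normal hZQ hZc (fun z hz => hz.2)
    (h.zcard Z fun z hz => hz) h.t_mem (mem_center_iff.2 h.tcen) h.tsq htZ h.comm h.pow hnd hfp hc (by
      rw [hQc]
      calc _ ≤ 32 * (Nat.card Z * Nat.card {x : K // x ∈ V ∧ ρ c * x * (ρ c)⁻¹ * x⁻¹ ∈ X}) := Nat.mul_le_mul_left 32 hN
        _ = Nat.card Z * (32 * Nat.card {x : K // x ∈ V ∧ ρ c * x * (ρ c)⁻¹ * x⁻¹ ∈ X}) := by ring
        _ ≤ _ := Nat.mul_le_mul_left _ hrk)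
  exact ⟨_, _, e⟩

end Dat

end Core

end Cfsg.Agent.H461.QF
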